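import Mathlib
import Cfsg.Prelude.Def_Transfer

/-!
# Radical subgroups of order `p²` in an extraspecial Sylow subgroup of order `p³`

The automiser of `P` acts on the projective line of `P / Z(P)` through a group of order prime to
`p`; every radical subgroup of order `p²` is a point with a large stabiliser.
-/

set_option autoImplicit false

open scoped commutatorElement LinearAlgebra.Projectivization

namespace Cfsg.Agent.RadicalBound

theorem arith {N o₁ o₂ o₃ e₁ e₂ e₃ : ℕ} (h1 : o₁ * e₁ = N) (h2 : o₂ * e₂ = N) (h3 : o₃ * e₃ = N)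
    (g2 : 2 ≤ e₂) (g3 : 2 ≤ e₃) (hN : 2 ≤ N) (hs : o₁ + o₂ + o₃ = N + 2) (he : 4 ≤ e₁) :
    e₂ < 4 ∧ e₃ < 4 ∧ o₁ ≤ 12 ∧ (6 ≤ e₁ → o₁ ≤ 2) := by
  have k1 : o₁ * 4 ≤ N := h1 ▸ Nat.mul_le_mul_left o₁ he
  have k2 : o₂ * 2 ≤ N := h2 ▸ Nat.mul_le_mul_left o₂ g2
  have k3 : o₃ * 2 ≤ N := h3 ▸ Nat.mul_le_mul_left o₃ g3
  have l2 : e₂ < 4 := by
    by_contra h
    have : o₂ * 4 ≤ N := h2 ▸ Nat.mul_le_mul_left o₂ (not_lt.1 h)
    omega
  have l3 : e₃ < 4 := by
    by_contra h
    have : o₃ * 4 ≤ N := h3 ▸ Nat.mul_le_mul_left o₃ (not_lt.1 h)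
    omega
  refine ⟨l2, l3, ?_, ?_⟩
  · interval_cases e₂ <;> interval_cases e₃ <;> try omega
    all_goals
      rcases (show e₁ = 4 ∨ e₁ = 5 ∨ 6 ≤ e₁ by omega) with rfl | rfl | h6
      · omega
      · omega
      · have : o₁ * 6 ≤ N := h1 ▸ Nat.mul_le_mul_left o₁ h6
        omega
  · intro h6
    have : o₁ * 6 ≤ N := h1 ▸ Nat.mul_le_mul_left o₁ h6
    interval_cases e₂ <;> interval_cases e₃ <;> omega

/-- In a finite group in which every non-identity element fixes exactly two points, few points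
have large stabilisers. -/
theorem card_large_stabilizer {H X : Type*} [Group H] [Finite H] [MulAction H X]
    (hfix : ∀ h : H, h ≠ 1 → (MulAction.fixedBy X h).ncard = 2) (S : Finset X) :
    ((∀ x ∈ S, 4 ≤ Nat.card (MulAction.stabilizer H x)) → S.card ≤ 12) ∧
    ((∀ x ∈ S, 6 ≤ Nat.card (MulAction.stabilizer H x)) → S.card ≤ 2) := by
  classical
  haveI : Fintype H := Fintype.ofFinite H
  let Y : SubMulAction H X :=
    { carrier := {x | ∃ h : H, h ≠ 1 ∧ h • x = x}
      smul_mem' := by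
        rintro c x ⟨h, h1, hx⟩
        refine ⟨c * h * c⁻¹, fun e => h1 (conj_eq_one_iff.1 e), ?_⟩
        rw [mul_smul, inv_smul_smul, mul_smul, hx] }
  have hYfin : (Y : Set X).Finite := by
    refine Set.Finite.subset (Set.Finite.biUnion (Set.toFinite {h : H | h ≠ 1})
      (fun h hh => Set.finite_of_ncard_ne_zero (s := MulAction.fixedBy X h) (by rw [hfix h hh]; norm_num))) ?_
    rintro x ⟨h, h1, hx⟩
    exact Set.mem_biUnion (show h ∈ {h : H | h ≠ 1} from h1) hx
  haveI : Finite Y := hYfin.to_subtype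
  haveI : Fintype Y := Fintype.ofFinite Y
  have hcard2 : ∀ h : H, h ≠ 1 → Fintype.card (MulAction.fixedBy Y h) = 2 := by
    intro h h1
    rw [← Nat.card_eq_fintype_card, ← hfix h h1, ← Nat.card_coe_set_eq]
    exact Nat.card_congr
      { toFun := fun y => ⟨(y.1 : X), congrArg Subtype.val y.2⟩
        invFun := fun x => ⟨⟨x.1, h, h1, x.2⟩, Subtype.ext x.2⟩
        left_inv := fun y => rfl
        right_inv := fun x => rfl }
  obtain ⟨N, hN⟩ : ∃ N, N = Fintype.card H := ⟨_, rfl⟩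
  obtain ⟨Ω, hΩ⟩ : ∃ Ω, Ω = MulAction.orbitRel.Quotient H Y := ⟨_, rfl⟩
  subst hΩ
  haveI : Fintype (MulAction.orbitRel.Quotient H Y) := Fintype.ofFinite _
  obtain ⟨r, hr⟩ : ∃ r, r = Fintype.card (MulAction.orbitRel.Quotient H Y) := ⟨_, rfl⟩
  have hburn : Fintype.card Y + 2 * (N - 1) = r * N := by
    have h := MulAction.sum_card_fixedBy_eq_card_orbits_mul_card_group H Y
    rw [← hr, ← hN, ← Finset.add_sum_erase _ _ (Finset.mem_univ (1 : H))] at h
    rw [Finset.sum_congr rfl (fun x hx => hcard2 x (Finset.ne_of_mem_erase hx)), Finset.sum_const,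
      Finset.card_erase_of_mem (Finset.mem_univ _), Finset.card_univ, ← hN, smul_eq_mul] at h
    rw [mul_comm 2 (N - 1), ← h]
    congr 1
    rw [← Nat.card_eq_fintype_card, ← Nat.card_eq_fintype_card]
    exact Nat.card_congr
      { toFun := fun y => ⟨y, one_smul H y⟩
        invFun := fun y => y.1
        left_inv := fun y => rfl
        right_inv := fun y => rfl }
  let o : MulAction.orbitRel.Quotient H Y → ℕ := fun ω => Nat.card (MulAction.orbitRel.Quotient.orbit ω)
  let e : MulAction.orbitRel.Quotient H Y → ℕ := fun ω => Nat.card (MulAction.stabilizer H ω.out)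
  have hoe : ∀ ω, o ω * e ω = N := by
    intro ω
    rw [hN, ← Nat.card_eq_fintype_card]
    show Nat.card (MulAction.orbitRel.Quotient.orbit ω) * Nat.card (MulAction.stabilizer H ω.out) = _
    rw [MulAction.orbitRel.Quotient.orbit_eq_orbit_out ω Quotient.out_eq,
      Nat.card_congr (MulAction.orbitEquivQuotientStabilizer H ω.out),
      ← Subgroup.card_eq_card_quotient_mul_card_subgroup]
  have hstab2 : ∀ y : Y, 2 ≤ Nat.card (MulAction.stabilizer H y) := by
    rintro ⟨x, h, h1, hx⟩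
    by_contra hlt
    have hb : MulAction.stabilizer H (⟨x, h, h1, hx⟩ : Y) = ⊥ := Subgroup.card_le_one_iff_eq_bot _ |>.1 (by omega)
    have : h ∈ MulAction.stabilizer H (⟨x, h, h1, hx⟩ : Y) := Subtype.ext hx
    rw [hb, Subgroup.mem_bot] at this
    exact h1 this
  have hsum : Fintype.card Y = ∑ ω, o ω := by
    rw [← Nat.card_eq_fintype_card, Nat.card_congr (MulAction.selfEquivSigmaOrbits' H Y), Nat.card_sigma]
  have hle : 2 * Fintype.card Y ≤ r * N := by
    rw [hsum, Finset.mul_sum, hr, ← Finset.card_univ, ← smul_eq_mul, ← Finset.sum_const]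
    refine Finset.sum_le_sum fun ω _ => ?_
    rw [← hoe ω, mul_comm 2]
    exact Nat.mul_le_mul_left _ (hstab2 _)
  -- the stabiliser is constant on orbits
  have hstabY : ∀ (x : X) (hx : x ∈ Y), Nat.card (MulAction.stabilizer H x) =
      e (Quotient.mk (MulAction.orbitRel H Y) ⟨x, hx⟩) := by
    intro x hx
    have h1 : MulAction.stabilizer H x = MulAction.stabilizer H (⟨x, hx⟩ : Y) :=
      Subgroup.ext fun g => ⟨fun h => Subtype.ext h, fun h => congrArg Subtype.val h⟩
    show _ = Nat.card (MulAction.stabilizer H (Quotient.mk (MulAction.orbitRel H Y) ⟨x, hx⟩).out)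
    rw [h1]
    have h2 : MulAction.orbitRel H Y (Quotient.mk (MulAction.orbitRel H Y) ⟨x, hx⟩).out ⟨x, hx⟩ :=
      Quotient.mk_out (s := MulAction.orbitRel H Y) _
    exact (Nat.card_congr (MulAction.stabilizerEquivStabilizerOfOrbitRel h2).toEquiv).symm
  have main : ∀ b : ℕ, 4 ≤ b → (∀ x ∈ S, b ≤ Nat.card (MulAction.stabilizer H x)) →
      S.card ≤ 12 ∧ (6 ≤ b → S.card ≤ 2) := by
    intro b hb hS
    rcases Nat.lt_or_ge N 2 with hN2 | hN2
    · rcases S.eq_empty_or_nonempty with rfl | ⟨x, hx⟩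
      · simp
      · exfalso
        have := hS x hx
        have := Nat.le_of_dvd Nat.card_pos (MulAction.stabilizer H x).card_subgroup_dvd_card
        rw [Nat.card_eq_fintype_card (α := H), ← hN] at this
        omega
    have hSY : ∀ x ∈ S, x ∈ Y := by
      intro x hx
      have hne : MulAction.stabilizer H x ≠ ⊥ := fun e0 => by
        have := hS x hx; rw [e0, Subgroup.card_bot] at this; omega
      obtain ⟨⟨g, hg⟩, hg1⟩ := (Subgroup.ne_bot_iff_exists_ne_one).1 hne
      exact ⟨g, fun h => hg1 (Subtype.ext h), hg⟩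
    have hcardle : S.card ≤ Fintype.card Y := by
      have hinj : Function.Injective (fun x : {x // x ∈ S} => (⟨x.1, hSY x.1 x.2⟩ : Y)) :=
        fun x y hxy => Subtype.ext (congrArg (fun z : Y => (z : X)) hxy)
      have := Fintype.card_le_of_injective _ hinj
      rwa [Fintype.card_coe] at this
    have hr3 : r ≤ 3 := by
      by_contra h
      have : 4 * N ≤ r * N := Nat.mul_le_mul_right N (by omega)
      omega
    rcases (show r ≤ 2 ∨ r = 3 by omega) with h | h
    · have : r * N ≤ 2 * N := Nat.mul_le_mul_right N h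
      exact ⟨by omega, fun _ => by omega⟩
    rw [h] at hburn
    obtain ⟨a, b', c, hab, hac, hbc, huniv⟩ := Finset.card_eq_three.1
      (show (Finset.univ : Finset (MulAction.orbitRel.Quotient H Y)).card = 3 by rw [Finset.card_univ, ← hr, h])
    have hsum3 : o a + o b' + o c = N + 2 := by
      rw [hsum, huniv, Finset.sum_insert (by simp [hab, hac]), Finset.sum_pair hbc] at hburn
      omega
    rcases S.eq_empty_or_nonempty with rfl | ⟨x₀, hx₀⟩
    · simp
    obtain ⟨w, hw⟩ : ∃ w, w = Quotient.mk (MulAction.orbitRel H Y) ⟨x₀, hSY x₀ hx₀⟩ := ⟨_, rfl⟩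
    have hew : b ≤ e w := by rw [hw, ← hstabY]; exact hS x₀ hx₀
    have he2 : ∀ ω, 2 ≤ e ω := fun ω => hstab2 _
    have key : (∀ ω, ω ≠ w → e ω < 4) ∧ o w ≤ 12 ∧ (6 ≤ e w → o w ≤ 2) := by
      have hmem : ∀ ω : MulAction.orbitRel.Quotient H Y, ω = a ∨ ω = b' ∨ ω = c := fun ω => by
        have := huniv ▸ Finset.mem_univ ω
        simpa using this
      rcases hmem w with rfl | rfl | rfl
      · obtain ⟨l2, l3, l⟩ := arith (hoe w) (hoe b') (hoe c) (he2 _) (he2 _) hN2 hsum3 (by omega)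
        refine ⟨fun ω hω => ?_, l⟩
        rcases hmem ω with rfl | rfl | rfl
        exacts [absurd rfl hω, l2, l3]
      · obtain ⟨l2, l3, l⟩ := arith (hoe w) (hoe a) (hoe c) (he2 _) (he2 _) hN2 (by omega) (by omega)
        refine ⟨fun ω hω => ?_, l⟩
        rcases hmem ω with rfl | rfl | rfl
        exacts [l2, absurd rfl hω, l3]
      · obtain ⟨l2, l3, l⟩ := arith (hoe w) (hoe a) (hoe b') (he2 _) (he2 _) hN2 (by omega) (by omega)
        refine ⟨fun ω hω => ?_, l⟩
        rcases hmem ω with rfl | rfl | rfl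
        exacts [l2, l3, absurd rfl hω]
    have hsub : S.card ≤ o w := by
      show S.card ≤ Nat.card (MulAction.orbitRel.Quotient.orbit w)
      haveI : Fintype (MulAction.orbitRel.Quotient.orbit w) := Fintype.ofFinite _
      have hin : ∀ x : {x // x ∈ S}, (⟨x.1, hSY x.1 x.2⟩ : Y) ∈ MulAction.orbitRel.Quotient.orbit w := by
        intro x
        rw [MulAction.orbitRel.Quotient.mem_orbit]
        by_contra hne
        have := key.1 _ hne
        have h' := hS x.1 x.2
        rw [hstabY x.1 (hSY x.1 x.2)] at h'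
        exact absurd this (not_lt.2 (hb.trans h'))
      have hinj : Function.Injective (fun x : {x // x ∈ S} => (⟨_, hin x⟩ : MulAction.orbitRel.Quotient.orbit w)) := fun x y hxy =>
        Subtype.ext (congrArg (fun z : MulAction.orbitRel.Quotient.orbit w => (((z : Y)) : X)) hxy)
      have := Fintype.card_le_of_injective _ hinj
      rwa [Fintype.card_coe, ← Nat.card_eq_fintype_card] at this
    exact ⟨hsub.trans key.2.1, fun h6 => hsub.trans (key.2.2 (h6.trans hew))⟩
  exact ⟨fun h => (main 4 le_rfl h).1, fun h => (main 6 (by norm_num) h).2 le_rfl⟩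

/-- A linear map of finite order prime to the characteristic which is not scalar has exactly two
eigenlines in dimension two over an algebraically closed field. -/
theorem two_fixed {K : Type*} [Field K] [IsAlgClosed K] (M : Matrix (Fin 2) (Fin 2) K) {k : ℕ}
    (hk : (k : K) ≠ 0) (hM : M ^ k = 1) (hns : ∀ c : K, ∃ v, M.mulVec v ≠ c • v) :
    ∃ v₁ v₂ : Fin 2 → K, v₁ ≠ 0 ∧ v₂ ≠ 0 ∧ (∀ c : K, c • v₁ ≠ v₂) ∧ (∃ a : K, M.mulVec v₁ = a • v₁) ∧
      (∃ a : K, M.mulVec v₂ = a • v₂) ∧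
      ∀ u : Fin 2 → K, u ≠ 0 → (∃ a : K, M.mulVec u = a • u) → (∃ c : K, c • (v₁ : Fin 2 → K) = u) ∨ ∃ c : K, c • (v₂ : Fin 2 → K) = u := by
  obtain ⟨a, ha⟩ := Module.End.exists_eigenvalue (Matrix.toLin' M)
  obtain ⟨v, hv⟩ := ha.exists_hasEigenvector
  have hv1 : M.mulVec v = a • v := by have := hv.apply_eq_smul; rwa [Matrix.toLin'_apply] at this
  have hv0 : v ≠ 0 := hv.2
  -- complete to a basis
  obtain ⟨w, hw⟩ : ∃ w : Fin 2 → K, ∀ c : K, c • v ≠ w := by
    by_contra h
    push Not at h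
    obtain ⟨c, hc⟩ := h ![1, 0]
    obtain ⟨d, hd⟩ := h ![0, 1]
    have c0 := congrFun hc 0
    have c1 := congrFun hc 1
    have d1 := congrFun hd 1
    simp only [Pi.smul_apply, smul_eq_mul, Matrix.cons_val_zero, Matrix.cons_val_one] at c0 c1 d1
    rcases mul_eq_zero.1 c1 with h1 | h1
    · rw [h1, zero_mul] at c0; exact one_ne_zero c0.symm
    · rw [h1, mul_zero] at d1; exact one_ne_zero d1.symm
  have hdet : v 0 * w 1 - v 1 * w 0 ≠ 0 := by
    intro h
    by_cases h0 : v 0 = 0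
    · have hv1' : v 1 ≠ 0 := fun h1 => hv0 (funext fun i => by fin_cases i <;> assumption)
      rw [h0, zero_mul, zero_sub, neg_eq_zero, mul_eq_zero] at h
      refine hw (w 1 / v 1) (funext fun i => ?_)
      fin_cases i
      · simp [h0, (h.resolve_left hv1')]
      · simp [hv1']
    · refine hw (w 0 / v 0) (funext fun i => ?_)
      fin_cases i
      · simp [h0]
      · simp only [Fin.mk_one, Pi.smul_apply, smul_eq_mul]
        field_simp
        linear_combination -h
  have span : ∀ u : Fin 2 → K, ∃ s t : K, u = s • v + t • w := by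
    intro u
    refine ⟨(u 0 * w 1 - u 1 * w 0) / (v 0 * w 1 - v 1 * w 0), (v 0 * u 1 - v 1 * u 0) / (v 0 * w 1 - v 1 * w 0),
      funext fun i => ?_⟩
    rw [Pi.add_apply, Pi.smul_apply, Pi.smul_apply, smul_eq_mul, smul_eq_mul, div_mul_eq_mul_div,
      div_mul_eq_mul_div, ← add_div, eq_div_iff hdet]
    fin_cases i <;> simp <;> ring
  have indep : ∀ s t : K, s • v + t • w = 0 → s = 0 ∧ t = 0 := by
    intro s t h
    have h0 := congrFun h 0
    have h1 := congrFun h 1
    simp only [Pi.add_apply, Pi.smul_apply, smul_eq_mul, Pi.zero_apply] at h0 h1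
    constructor
    · exact (mul_eq_zero.1 (by linear_combination w 1 * h0 - w 0 * h1 :
        s * (v 0 * w 1 - v 1 * w 0) = 0)).resolve_right hdet
    · exact (mul_eq_zero.1 (by linear_combination v 0 * h1 - v 1 * h0 :
        t * (v 0 * w 1 - v 1 * w 0) = 0)).resolve_right hdet
  obtain ⟨c, b, hMw⟩ := span (M.mulVec w)
  -- the second eigenvalue differs
  have hba : b ≠ a := by
    rintro rfl
    have hpow : ∀ j : ℕ, (M ^ j).mulVec v = b ^ j • v ∧
        (M ^ j).mulVec w = b ^ j • w + ((j : K) * b ^ (j - 1) * c) • v := by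
      intro j
      induction j with
      | zero => simp
      | succ j ih =>
        constructor
        · rw [pow_succ', ← Matrix.mulVec_mulVec, ih.1, Matrix.mulVec_smul, hv1, smul_smul, ← pow_succ]
        · rw [pow_succ', ← Matrix.mulVec_mulVec, ih.2, Matrix.mulVec_add, Matrix.mulVec_smul, Matrix.mulVec_smul,
            hv1, hMw, smul_add, smul_smul, smul_smul, smul_smul]
          rcases j with _ | j
          · simp [add_comm]
          · simp only [Nat.succ_sub_one, pow_succ]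
            push_cast
            module
    obtain ⟨h1, h2⟩ := hpow k
    rw [hM, Matrix.one_mulVec] at h1 h2
    have hbk : b ^ k = 1 := by
      have := indep (b ^ k - 1) 0 (by rw [sub_smul, one_smul, zero_smul, add_zero, ← h1, sub_self])
      exact sub_eq_zero.1 this.1
    have hb0 : b ≠ 0 := fun h => by
      rw [h, zero_pow (fun hk0 => hk (by simp [hk0]))] at hbk
      exact zero_ne_one hbk
    have hc : c = 0 := by
      rw [hbk, one_smul, left_eq_add] at h2
      have := (smul_eq_zero.1 h2).resolve_right hv0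
      simpa [hk, hb0] using this
    obtain ⟨u, hu⟩ := hns b
    obtain ⟨s, t, rfl⟩ := span u
    apply hu
    rw [Matrix.mulVec_add, Matrix.mulVec_smul, Matrix.mulVec_smul, hv1, hMw, hc, zero_smul, zero_add,
      smul_add, smul_comm b s, smul_comm b t]
  obtain ⟨w', hw'⟩ : ∃ w', w' = (c / (b - a)) • v + w := ⟨_, rfl⟩
  have hMw' : M.mulVec w' = b • w' := by
    rw [hw', Matrix.mulVec_add, Matrix.mulVec_smul, hv1, hMw, smul_add, smul_smul, smul_smul, ← add_assoc,
      ← add_smul]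
    congr 2
    field_simp [sub_ne_zero.2 hba]
    ring
  have hw'0 : ∀ s : K, s • v ≠ w' := fun s h => hw (s - c / (b - a)) (by rw [sub_smul, h, hw']; abel)
  refine ⟨v, w', hv0, fun h => hw'0 0 (by rw [zero_smul, h]), hw'0, ⟨a, hv1⟩, ⟨b, hMw'⟩, ?_⟩
  rintro u hu ⟨d, hd⟩
  obtain ⟨s, t, rfl⟩ := span u
  have e : s • v + t • w = (s - t * (c / (b - a))) • v + t • w' := by rw [hw']; module
  rw [e, Matrix.mulVec_add, Matrix.mulVec_smul, Matrix.mulVec_smul, hv1, hMw', hw'] at hd
  have h3 := indep ((s - t * (c / (b - a))) * (a - d) + t * (b - d) * (c / (b - a))) (t * (b - d)) (by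
    linear_combination (norm := module) hd)
  rcases mul_eq_zero.1 h3.2 with h4 | h4
  · left; exact ⟨s, by rw [h4, zero_smul, add_zero]⟩
  · right
    have h5 := h3.1
    rw [h4, mul_zero, zero_mul, add_zero] at h5
    have had : a - d ≠ 0 := fun h => hba (by linear_combination h4 - h)
    refine ⟨t, ?_⟩
    rw [e, (mul_eq_zero.1 h5).resolve_right had, zero_smul, zero_add]

section Line

variable {p : ℕ} [Fact p.Prime]

/-- Few lines of `F_p²` carry a big torus of the automiser. -/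
theorem card_lines {N : Type*} [Group N] [Finite N] (ρ : N →* Matrix (Fin 2) (Fin 2) (ZMod p))
    (hρ : ∀ n, ∃ k : ℕ, ¬ p ∣ k ∧ ρ n ^ k = 1) (T : Finset (Fin 2 → ZMod p)) (hT0 : ∀ u ∈ T, u ≠ 0)
    (hind : ∀ u ∈ T, ∀ v ∈ T, u ≠ v → u 0 * v 1 - u 1 * v 0 ≠ 0) {m : ℕ} (lam : ZMod p) (hlam : lam ≠ 0)
    (hm : m ≤ orderOf (lam ^ 3))
    (hdiag : ∀ u ∈ T, ∃ n, (ρ n).mulVec u = lam⁻¹ • u ∧ (ρ n).det = lam) :
    (4 ≤ m → T.card ≤ 12) ∧ (6 ≤ m → T.card ≤ 2) := by
  classical
  let K := AlgebraicClosure (ZMod p)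
  let cK : ZMod p →+* K := algebraMap (ZMod p) K
  let ρK : N →* Matrix (Fin 2) (Fin 2) K := cK.mapMatrix.toMonoidHom.comp ρ
  let F : N →* ((Fin 2 → K) ≃ₗ[K] (Fin 2 → K)) :=
    { toFun := fun n => LinearEquiv.ofLinear (Matrix.toLin' (ρK n)) (Matrix.toLin' (ρK n⁻¹))
        (by rw [← Matrix.toLin'_mul, ← map_mul, mul_inv_cancel, map_one, Matrix.toLin'_one])
        (by rw [← Matrix.toLin'_mul, ← map_mul, inv_mul_cancel, map_one, Matrix.toLin'_one])
      map_one' := LinearEquiv.ext fun v => by simp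
      map_mul' := fun a b => LinearEquiv.ext fun v => by
        show Matrix.toLin' (ρK (a * b)) v = Matrix.toLin' (ρK a) (Matrix.toLin' (ρK b) v)
        rw [map_mul, Matrix.toLin'_mul]; rfl }
  have hF : ∀ n v, F n v = (ρK n).mulVec v := fun n v => by
    show Matrix.toLin' (ρK n) v = _
    rw [Matrix.toLin'_apply]
  let Φ : N →* Equiv.Perm (ℙ K (Fin 2 → K)) :=
    (MulAction.toPermHom ((Fin 2 → K) ≃ₗ[K] (Fin 2 → K)) (ℙ K (Fin 2 → K))).comp F
  have hΦ : ∀ n (v : Fin 2 → K) (hv : v ≠ 0), Φ n (Projectivization.mk K v hv) = Projectivization.mk K v hv ↔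
      ∃ a : K, (ρK n).mulVec v = a • v := by
    intro n v hv
    show F n • Projectivization.mk K v hv = _ ↔ _
    rw [Projectivization.smul_mk, Projectivization.mk_eq_mk_iff']
    exact exists_congr fun a => by rw [← hF, eq_comm]; rfl
  haveI : Finite Φ.range := Finite.of_surjective _ Φ.rangeRestrict_surjective
  have hscal : ∀ n, (∃ c : K, ∀ v, (ρK n).mulVec v = c • v) → Φ n = 1 := by
    rintro n ⟨c, hc⟩
    refine Equiv.ext fun x => ?_
    induction x using Projectivization.ind with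
    | h v hv => rw [Equiv.Perm.one_apply, hΦ]; exact ⟨c, hc v⟩
  have hfix : ∀ h : Φ.range, h ≠ 1 → (MulAction.fixedBy (ℙ K (Fin 2 → K)) h).ncard = 2 := by
    rintro ⟨_, n, rfl⟩ h1
    obtain ⟨k, hk, hkn⟩ := hρ n
    have hkK : (k : K) ≠ 0 := fun h => hk ((CharP.cast_eq_zero_iff K p k).1 h)
    obtain ⟨v₁, v₂, h₁, h₂, h12, f₁, f₂, hall⟩ := two_fixed (ρK n) hkK
      (by show (cK.mapMatrix (ρ n)) ^ k = 1; rw [← map_pow, hkn, map_one])
      (fun c => by
        by_contra h
        push Not at h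
        exact h1 (Subtype.ext (hscal n ⟨c, h⟩)))
    rw [Set.ncard_eq_two]
    refine ⟨Projectivization.mk K v₁ h₁, Projectivization.mk K v₂ h₂, fun e => ?_, Set.ext fun x => ?_⟩
    · obtain ⟨c, hc⟩ := (Projectivization.mk_eq_mk_iff' _ _ _ _ _).1 e.symm
      exact h12 c hc
    · induction x using Projectivization.ind with
      | h u hu =>
        show Φ n (Projectivization.mk K u hu) = Projectivization.mk K u hu ↔ _
        rw [hΦ, Set.mem_insert_iff, Set.mem_singleton_iff, Projectivization.mk_eq_mk_iff',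
          Projectivization.mk_eq_mk_iff']
        constructor
        · exact hall u hu
        · rintro (⟨c, rfl⟩ | ⟨c, rfl⟩)
          · obtain ⟨a, ha⟩ := f₁; exact ⟨a, by rw [Matrix.mulVec_smul, ha, smul_comm]⟩
          · obtain ⟨a, ha⟩ := f₂; exact ⟨a, by rw [Matrix.mulVec_smul, ha, smul_comm]⟩
  -- lift the lines
  have hlift : ∀ u : {u // u ∈ T}, (fun i => cK (u.1 i)) ≠ 0 := fun u h =>
    hT0 u.1 u.2 (funext fun i => cK.injective (by rw [Pi.zero_apply, map_zero]; exact congrFun h i))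
  let g : {u // u ∈ T} → ℙ K (Fin 2 → K) := fun u => Projectivization.mk K (fun i => cK (u.1 i)) (hlift u)
  have hg : Function.Injective g := by
    intro u v h
    obtain ⟨c, hc⟩ := (Projectivization.mk_eq_mk_iff' _ _ _ _ _).1 h
    by_contra hne
    refine hind u.1 u.2 v.1 v.2 (fun e => hne (Subtype.ext e)) (cK.injective ?_)
    have h0 : c * cK (v.1 0) = cK (u.1 0) := congrFun hc 0
    have h1 : c * cK (v.1 1) = cK (u.1 1) := congrFun hc 1
    rw [map_zero, map_sub, map_mul, map_mul, ← h0, ← h1]; ring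
  have hstab : ∀ u : {u // u ∈ T}, m ≤ Nat.card (MulAction.stabilizer Φ.range (g u)) := by
    intro u
    obtain ⟨n, hn, hdet⟩ := hdiag u.1 u.2
    have hpow : ∀ j : ℕ, (ρ n ^ j).mulVec u.1 = (lam⁻¹) ^ j • u.1 := by
      intro j
      induction j with
      | zero => simp
      | succ j ih => rw [pow_succ', ← Matrix.mulVec_mulVec, ih, Matrix.mulVec_smul, hn, smul_smul, ← pow_succ]
    have hlin : ∀ j : ℕ, (ρK (n ^ j)).mulVec (fun i => cK (u.1 i)) = cK ((lam⁻¹) ^ j) • fun i => cK (u.1 i) := by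
      intro j
      show (cK.mapMatrix (ρ (n ^ j))).mulVec _ = _
      rw [map_pow ρ]
      funext i
      have := congrArg cK (congrFun (hpow j) i)
      rw [RingHom.map_mulVec, Pi.smul_apply, smul_eq_mul, map_mul] at this
      exact this
    have hmem : (⟨Φ n, n, rfl⟩ : Φ.range) ∈ MulAction.stabilizer Φ.range (g u) := by
      show Φ n (g u) = g u
      rw [hΦ]
      exact ⟨_, by have h1 := hlin 1; rwa [pow_one] at h1⟩
    refine hm.trans (le_trans ?_ (Nat.le_of_dvd Nat.card_pos (Subgroup.orderOf_dvd_natCard _ hmem)))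
    refine Nat.le_of_dvd (orderOf_pos _) (orderOf_dvd_of_pow_eq_one ?_)
    obtain ⟨j, hj⟩ : ∃ j, j = orderOf (⟨Φ n, n, rfl⟩ : Φ.range) := ⟨_, rfl⟩
    rw [← hj]
    have hone : Φ (n ^ j) = 1 := by
      have := congrArg Subtype.val (pow_orderOf_eq_one (⟨Φ n, n, rfl⟩ : Φ.range))
      rw [← hj] at this
      rw [map_pow]; simpa using this
    -- a trivial permutation comes from a scalar
    obtain ⟨M, hM⟩ : ∃ M, M = ρ (n ^ j) := ⟨_, rfl⟩
    have hfixall : ∀ v : Fin 2 → K, v ≠ 0 → ∃ a : K, (ρK (n ^ j)).mulVec v = a • v := fun v hv =>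
      (hΦ _ v hv).1 (by rw [hone]; rfl)
    obtain ⟨a₁, e₁⟩ := hfixall ![1, 0] (fun h => one_ne_zero (congrFun h 0))
    obtain ⟨a₂, e₂⟩ := hfixall ![0, 1] (fun h => one_ne_zero (congrFun h 1))
    obtain ⟨a₃, e₃⟩ := hfixall ![1, 1] (fun h => one_ne_zero (congrFun h 0))
    have hMK : ∀ i k, (ρK (n ^ j)) i k = cK (M i k) := fun i k => by rw [hM]; rfl
    have e10 := congrFun e₁ 0
    have e11 := congrFun e₁ 1
    have e20 := congrFun e₂ 0
    have e21 := congrFun e₂ 1
    have e30 := congrFun e₃ 0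
    have e31 := congrFun e₃ 1
    simp [Matrix.mulVec, dotProduct, Fin.sum_univ_two, hMK] at e10 e11 e20 e21 e30 e31
    have h10 : M 1 0 = 0 := e11
    have h01 : M 0 1 = 0 := e20
    have h00 : M 0 0 = M 1 1 := cK.injective (by
      rw [h10, map_zero, zero_add] at e31
      rw [h01, map_zero, add_zero] at e30
      rw [e30, e31])
    have hu := hpow j
    rw [← map_pow, ← hM] at hu
    have hd : M.det = lam ^ j := by rw [hM, map_pow, Matrix.det_pow, hdet]
    rw [Matrix.det_fin_two, h10, h01, mul_zero, sub_zero, ← h00] at hd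
    have h0 := congrFun hu 0
    have h1 := congrFun hu 1
    simp [Matrix.mulVec, dotProduct, Fin.sum_univ_two, h10, h01, ← h00] at h0 h1
    have ha : M 0 0 = (lam⁻¹) ^ j := by
      by_cases hu0 : u.1 0 = 0
      · have hu1 : u.1 1 ≠ 0 := fun h => hT0 u.1 u.2 (funext fun i => by fin_cases i <;> assumption)
        rcases h1 with h | h
        · rw [h, inv_pow]
        · exact absurd h hu1
      · rcases h0 with h | h
        · rw [h, inv_pow]
        · exact absurd h hu0
    rw [← pow_mul, mul_comm 3 j, pow_mul]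
    rw [ha] at hd
    calc (lam ^ j) ^ 3 = lam ^ j * lam ^ j * ((lam⁻¹) ^ j * (lam⁻¹) ^ j) := by rw [hd]; ring
      _ = 1 := by rw [inv_pow]; field_simp
  obtain ⟨h12, h2⟩ := card_large_stabilizer hfix (Finset.univ.map ⟨g, hg⟩)
  have hc : (Finset.univ.map ⟨g, hg⟩).card = T.card := by rw [Finset.card_map, Finset.card_univ, Fintype.card_coe]
  have hb : ∀ b, b ≤ m → ∀ x ∈ Finset.univ.map ⟨g, hg⟩, b ≤ Nat.card (MulAction.stabilizer Φ.range x) := by
    intro b hb x hx
    obtain ⟨u, -, rfl⟩ := Finset.mem_map.1 hx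
    exact hb.trans (hstab u)
  exact ⟨fun h => hc ▸ h12 (hb 4 h), fun h => hc ▸ h2 (hb 6 h)⟩

/-! ### Coordinates -/

theorem pow_val_add {M : Type*} [Monoid M] {u : M} (hu : u ^ p = 1) (i j : ZMod p) :
    u ^ (i + j).val = u ^ i.val * u ^ j.val := by
  rw [ZMod.val_add, ← pow_eq_pow_mod _ hu, pow_add]

theorem pow_val_mul {M : Type*} [Monoid M] {u : M} (hu : u ^ p = 1) (i j : ZMod p) :
    (u ^ i.val) ^ j.val = u ^ (i * j).val := by
  rw [ZMod.val_mul, ← pow_eq_pow_mod _ hu, pow_mul]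

theorem pow_val_eq_one {M : Type*} [Group M] {u : M} (hu : u ^ p = 1) (hu1 : u ≠ 1) {i : ZMod p}
    (h : u ^ i.val = 1) : i = 0 := by
  have h1 := orderOf_dvd_of_pow_eq_one h
  rw [orderOf_eq_prime hu hu1] at h1
  rw [← ZMod.natCast_zmod_val i, ZMod.natCast_eq_zero_iff]
  exact h1

theorem exists_coords {M : Type*} [Group M] [Finite M] (hM : Nat.card M = p ^ 2) (hc : ∀ a b : M, a * b = b * a)
    (he : ∀ a : M, a ^ p = 1) (u v : M) (hu : u ≠ 1) (hv : v ∉ Subgroup.zpowers u) :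
    ∃ f : Multiplicative (Fin 2 → ZMod p) ≃* M,
      ∀ w, f (Multiplicative.ofAdd w) = u ^ (w 0).val * v ^ (w 1).val := by
  let f : Multiplicative (Fin 2 → ZMod p) →* M :=
    { toFun := fun w => u ^ ((Multiplicative.toAdd w) 0).val * v ^ ((Multiplicative.toAdd w) 1).val
      map_one' := by simp
      map_mul' := fun a b => by
        rw [toAdd_mul, Pi.add_apply, Pi.add_apply, pow_val_add (he u), pow_val_add (he v)]
        exact Commute.mul_mul_mul_comm (hc _ _) _ _ }
  have hinj : Function.Injective f := by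
    rw [injective_iff_map_eq_one]
    intro w hw
    change u ^ ((Multiplicative.toAdd w) 0).val * v ^ ((Multiplicative.toAdd w) 1).val = 1 at hw
    have h1 : (Multiplicative.toAdd w) 1 = 0 := by
      by_contra h
      apply hv
      have hmem : v ^ ((Multiplicative.toAdd w) 1).val ∈ Subgroup.zpowers u := by
        rw [eq_inv_of_mul_eq_one_right hw]; exact inv_mem (Subgroup.pow_mem _ (Subgroup.mem_zpowers u) _)
      have := Subgroup.pow_mem _ hmem ((Multiplicative.toAdd w) 1)⁻¹.val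
      rwa [pow_val_mul (he v), mul_inv_cancel₀ h, ZMod.val_one, pow_one] at this
    rw [h1, ZMod.val_zero, pow_zero, mul_one] at hw
    have h0 := pow_val_eq_one (he u) hu hw
    refine Multiplicative.toAdd.injective (funext fun i => ?_)
    fin_cases i
    · simpa using h0
    · simpa using h1
  refine ⟨MulEquiv.ofBijective f ((Nat.bijective_iff_injective_and_card f).2 ⟨hinj, ?_⟩), fun w => rfl⟩
  rw [hM, Nat.card_congr Multiplicative.toAdd, Nat.card_fun, Nat.card_fin, Nat.card_zmod]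

end Line

/-! ### The extraspecial Sylow subgroup -/

section Group

variable {G : Type*} [Group G] [Finite G] {p : ℕ} [Fact p.Prime]

/-- In an elementary abelian group of order `p²` generated by `u` and `v`, the diagonal map
`(u, v) ↦ (u^λ, v^(1/λ))` is a product of automorphisms of order `p`. -/
theorem diag_mem {M : Type*} [Group M] [Finite M] (f : Multiplicative (Fin 2 → ZMod p) ≃* M)
    (R : Subgroup (MulAut M)) (hR : ∀ φ : MulAut M, orderOf φ = p → φ ∈ R) (l : ZMod p) (hl : l ≠ 0) :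
    ∃ φ ∈ R, ∀ w : Fin 2 → ZMod p,
      φ (f (Multiplicative.ofAdd w)) = f (Multiplicative.ofAdd ![l * w 0, l⁻¹ * w 1]) := by
  let S : Bool → ZMod p → ((Fin 2 → ZMod p) ≃+ (Fin 2 → ZMod p)) := fun b c =>
    { toFun := fun w => if b then ![w 0 + c * w 1, w 1] else ![w 0, w 1 + c * w 0]
      invFun := fun w => if b then ![w 0 - c * w 1, w 1] else ![w 0, w 1 - c * w 0]
      left_inv := fun w => by cases b <;> funext i <;> fin_cases i <;> simp
      right_inv := fun w => by cases b <;> funext i <;> fin_cases i <;> simp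
      map_add' := fun x y => by cases b <;> funext i <;> fin_cases i <;> simp <;> ring }
  let T : Bool → ZMod p → MulAut M := fun b c => f.symm.trans ((AddEquiv.toMultiplicative (S b c)).trans f)
  have hT : ∀ b c w, T b c (f (Multiplicative.ofAdd w)) = f (Multiplicative.ofAdd (S b c w)) := by
    intro b c w
    show f ((AddEquiv.toMultiplicative (S b c)) (f.symm (f (Multiplicative.ofAdd w)))) = _
    rw [f.symm_apply_apply]; rfl
  have hmul : ∀ b c d, T b c * T b d = T b (c + d) := by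
    intro b c d
    refine MulEquiv.ext fun x => ?_
    obtain ⟨w, rfl⟩ := f.surjective x
    obtain ⟨w, rfl⟩ := Multiplicative.ofAdd.surjective w
    rw [MulAut.mul_apply, hT, hT, hT]
    congr 2
    cases b <;> funext i <;> fin_cases i <;> simp [S] <;> ring
  have h0 : ∀ b, T b 0 = 1 := by
    intro b
    refine MulEquiv.ext fun x => ?_
    obtain ⟨w, rfl⟩ := f.surjective x
    obtain ⟨w, rfl⟩ := Multiplicative.ofAdd.surjective w
    rw [hT, MulAut.one_apply]
    congr 2
    cases b <;> funext i <;> fin_cases i <;> simp [S]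
  have hmem : ∀ b c, T b c ∈ R := by
    intro b c
    by_cases hc : c = 0
    · rw [hc, h0]; exact one_mem R
    refine hR _ (orderOf_eq_prime ?_ ?_)
    · have key : ∀ n : ℕ, T b c ^ n = T b ((n : ZMod p) * c) := by
        intro n
        induction n with
        | zero => rw [pow_zero, Nat.cast_zero, zero_mul, h0]
        | succ n ih => rw [pow_succ, ih, hmul]; congr 1; push_cast; ring
      rw [key, ZMod.natCast_self, zero_mul, h0]
    · intro h
      have h1 := congrArg (fun φ : MulAut M => φ (f (Multiplicative.ofAdd ![1, 1]))) h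
      simp only [hT, MulAut.one_apply] at h1
      have h2 := Multiplicative.ofAdd.injective (f.injective h1)
      cases b
      · have := congrFun h2 1
        simp [S] at this
        exact hc this
      · have := congrFun h2 0
        simp [S] at this
        exact hc this
  refine ⟨T true l * T false (-l⁻¹) * T true l * (T true (-1) * T false 1 * T true (-1)),
    mul_mem (mul_mem (mul_mem (hmem _ _) (hmem _ _)) (hmem _ _)) (mul_mem (mul_mem (hmem _ _) (hmem _ _)) (hmem _ _)),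
    fun w => ?_⟩
  simp only [MulAut.mul_apply, hT]
  congr 2
  funext i
  fin_cases i <;> simp [S] <;> field_simp <;> ring

/-- A radical subgroup of order `p²` yields a torus element in the normaliser of `P`. -/
theorem exists_torus (P : Sylow p G) (hexp : ∀ x ∈ (P : Subgroup G), x ^ p = 1) (A : Subgroup G)
    (hAP : A ≤ P) (hA : Nat.card A = p ^ 2) {z a : G} (hz : z ∈ A) (hz1 : z ≠ 1) (ha : a ∈ A)
    (haz : a ∉ Subgroup.zpowers z) (hcen : ∀ v ∈ (P : Subgroup G), v * z = z * v)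
    (hcom : ∀ v ∈ (P : Subgroup G), ∀ w ∈ (P : Subgroup G), ⁅v, w⁆ ∈ Subgroup.zpowers z)
    (hSL : ∀ φ : MulAut A, orderOf φ = p → ∃ g : G, ∀ x : A, (φ x : G) = g * (x : G) * g⁻¹)
    (l : ZMod p) (hl : l ≠ 0) :
    ∃ n ∈ Subgroup.normalizer ((P : Subgroup G) : Set G),
      n * z * n⁻¹ = z ^ l.val ∧ ∃ i : ℕ, n * a * n⁻¹ = a ^ (l⁻¹).val * z ^ i := by
  have hcA : ∀ x y : A, x * y = y * x := fun x y =>
    haveI := IsPGroup.isMulCommutative_of_card_eq_prime_sq hA
    this.is_comm.comm x y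
  obtain ⟨f, hf⟩ := exists_coords hA hcA (fun x => Subtype.ext (hexp _ (hAP x.2))) ⟨z, hz⟩ ⟨a, ha⟩
    (fun h => hz1 (congrArg Subtype.val h)) (fun h => by
      obtain ⟨k, hk⟩ := h
      exact haz ⟨k, by simpa using congrArg Subtype.val hk⟩)
  obtain ⟨φ, hφR, hφ⟩ := diag_mem f (Subgroup.normalizerMonoidHom A).range (fun φ hφ => by
    obtain ⟨g, hg⟩ := hSL φ hφ
    have hgN : g ∈ Subgroup.normalizer (A : Set G) := by
      rw [Subgroup.mem_normalizer_iff]
      intro x
      refine ⟨fun hx => hg ⟨x, hx⟩ ▸ (φ ⟨x, hx⟩).2, fun hx => ?_⟩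
      have h1 := hg (φ.symm ⟨_, hx⟩)
      rw [MulEquiv.apply_symm_apply] at h1
      have h2 : (x : G) = (φ.symm ⟨_, hx⟩ : A) := mul_left_cancel (mul_right_cancel h1)
      rw [h2]; exact (φ.symm ⟨_, hx⟩).2
    exact ⟨⟨g, hgN⟩, MulEquiv.ext fun x => Subtype.ext (hg x).symm⟩) l hl
  obtain ⟨⟨g, hgN⟩, hg⟩ := hφR
  have hgz : g * z * g⁻¹ = z ^ l.val := by
    have h := hφ ![1, 0]
    rw [← hg, hf, hf] at h
    simpa [ZMod.val_one] using congrArg Subtype.val h
  have hga : g * a * g⁻¹ = a ^ (l⁻¹).val := by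
    have h := hφ ![0, 1]
    rw [← hg, hf, hf] at h
    simpa [ZMod.val_one] using congrArg Subtype.val h
  -- the unipotent part
  let D : Subgroup G :=
    { carrier := {d | d * z * d⁻¹ = z ∧ a⁻¹ * (d * a * d⁻¹) ∈ Subgroup.zpowers z}
      one_mem' := ⟨by group, by simp⟩
      mul_mem' := by
        rintro x y ⟨hx, hx'⟩ ⟨hy, ⟨k, hk⟩⟩
        refine ⟨by rw [show x * y * z * (x * y)⁻¹ = x * (y * z * y⁻¹) * x⁻¹ by group, hy, hx], ?_⟩
        have hk' : z ^ k = a⁻¹ * (y * a * y⁻¹) := hk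
        have e : a⁻¹ * (x * y * a * (x * y)⁻¹) = a⁻¹ * (x * a * x⁻¹) * z ^ k := by
          calc a⁻¹ * (x * y * a * (x * y)⁻¹) = a⁻¹ * (x * a * x⁻¹) * (x * (a⁻¹ * (y * a * y⁻¹)) * x⁻¹) := by group
            _ = a⁻¹ * (x * a * x⁻¹) * (x * z * x⁻¹) ^ k := by rw [conj_zpow, ← hk']
            _ = _ := by rw [hx]
        rw [e]; exact mul_mem hx' (Subgroup.zpow_mem _ (Subgroup.mem_zpowers z) k)
      inv_mem' := by
        rintro x ⟨hx, ⟨k, hk⟩⟩
        have hk' : z ^ k = a⁻¹ * (x * a * x⁻¹) := hk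
        have hx2 : x⁻¹ * z * x⁻¹⁻¹ = z := by
          calc x⁻¹ * z * x⁻¹⁻¹ = x⁻¹ * (x * z * x⁻¹) * x := by rw [hx, inv_inv]
            _ = z := by group
        refine ⟨hx2, ?_⟩
        have e : a⁻¹ * (x⁻¹ * a * x⁻¹⁻¹) = (x⁻¹ * z * x⁻¹⁻¹) ^ (-k) := by
          rw [conj_zpow, zpow_neg, hk']; group
        rw [e, hx2]; exact Subgroup.zpow_mem _ (Subgroup.mem_zpowers z) _ }
  have hPD : (P : Subgroup G) ≤ D := by
    intro v hv
    refine ⟨by rw [hcen v hv, mul_inv_cancel_right], ?_⟩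
    have h := hcom a⁻¹ (inv_mem (hAP ha)) v hv
    rwa [commutatorElement_def, inv_inv, show a⁻¹ * v * a * v⁻¹ = a⁻¹ * (v * a * v⁻¹) by group] at h
  have hgPD : ((g • P : Sylow p G) : Subgroup G) ≤ D := by
    intro w hw
    rw [Sylow.coe_subgroup_smul, Subgroup.mem_smul_pointwise_iff_exists] at hw
    obtain ⟨v, hv, rfl⟩ := hw
    simp only [MulAut.smul_def, MulAut.conj_apply]
    have hzg : g⁻¹ * z * g = z ^ (l⁻¹).val := by
      have hc : (g⁻¹ * z * g) = (g⁻¹ * z * g⁻¹⁻¹) := by group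
      calc g⁻¹ * z * g = g⁻¹ * (z ^ l.val) ^ (l⁻¹).val * g⁻¹⁻¹ := by
            rw [pow_val_mul (hexp z (hAP hz)), mul_inv_cancel₀ hl, ZMod.val_one, pow_one, hc]
        _ = (g⁻¹ * z ^ l.val * g⁻¹⁻¹) ^ (l⁻¹).val := (conj_pow).symm
        _ = z ^ (l⁻¹).val := by rw [← hgz]; congr 1; group
    have hag : g⁻¹ * a * g = a ^ l.val := by
      calc g⁻¹ * a * g = g⁻¹ * (a ^ (l⁻¹).val) ^ l.val * g⁻¹⁻¹ := by
            rw [pow_val_mul (hexp a (hAP ha)), inv_mul_cancel₀ hl, ZMod.val_one, pow_one, inv_inv]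
        _ = (g⁻¹ * a ^ (l⁻¹).val * g⁻¹⁻¹) ^ l.val := (conj_pow).symm
        _ = a ^ l.val := by rw [← hga]; congr 1; group
    constructor
    · calc g * v * g⁻¹ * z * (g * v * g⁻¹)⁻¹ = g * (v * (g⁻¹ * z * g) * v⁻¹) * g⁻¹ := by group
        _ = g * (g⁻¹ * z * g) * g⁻¹ := by
            rw [hzg, (Commute.pow_right (hcen v hv) _).eq, mul_inv_cancel_right]
        _ = z := by group
    · have h := hcom (a ^ l.val)⁻¹ (inv_mem (pow_mem (hAP ha) _)) v hv
      obtain ⟨k, hk⟩ := h
      have hk' : z ^ k = (g⁻¹ * a * g)⁻¹ * v * (g⁻¹ * a * g) * v⁻¹ := by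
        rw [hag, show z ^ k = _ from hk, commutatorElement_def, inv_inv]
      have e : a⁻¹ * (g * v * g⁻¹ * a * (g * v * g⁻¹)⁻¹) = (g * z * g⁻¹) ^ k := by
        rw [conj_zpow, hk']; group
      rw [e, hgz]
      exact Subgroup.zpow_mem _ (Subgroup.pow_mem _ (Subgroup.mem_zpowers z) _) k
  obtain ⟨⟨d, hdD⟩, hd⟩ := MulAction.exists_smul_eq D ((g • P).subtype hgPD) (P.subtype hPD)
  have hdP : (d * g) • P = P := by
    rw [mul_smul]
    exact Sylow.subtype_injective (p := p) (N := D)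
      (hP := by
        intro w hw
        rw [Sylow.coe_subgroup_smul, Subgroup.mem_smul_pointwise_iff_exists] at hw
        obtain ⟨v, hv, rfl⟩ := hw
        exact mul_mem (mul_mem hdD (hgPD hv)) (inv_mem hdD))
      (hQ := hPD) ((Sylow.smul_subtype hgPD ⟨d, hdD⟩).symm.trans hd)
  refine ⟨d * g, Sylow.smul_eq_iff_mem_normalizer.1 hdP, ?_, ?_⟩
  · calc d * g * z * (d * g)⁻¹ = d * (g * z * g⁻¹) * d⁻¹ := by group
      _ = (d * z * d⁻¹) ^ l.val := by rw [hgz, conj_pow]
      _ = _ := by rw [hdD.1]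
  · obtain ⟨k, hk⟩ := mem_powers_iff_mem_zpowers.2 hdD.2
    refine ⟨k * (l⁻¹).val, ?_⟩
    have hk' : d * a * d⁻¹ = a * z ^ k := by rw [show z ^ k = _ from hk, mul_inv_cancel_left]
    calc d * g * a * (d * g)⁻¹ = d * (g * a * g⁻¹) * d⁻¹ := by group
      _ = (d * a * d⁻¹) ^ (l⁻¹).val := by rw [hga, conj_pow]
      _ = a ^ (l⁻¹).val * (z ^ k) ^ (l⁻¹).val := by
          rw [hk', (Commute.pow_right (hcen a (hAP ha)) k).mul_pow]
      _ = _ := by rw [← pow_mul]

/-- The data of an extraspecial Sylow subgroup of order `p³` and exponent `p`. -/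
theorem exists_data (P : Sylow p G) (hE : Cfsg.IsExtraspecial p P) (hexp : Monoid.exponent P = p) :
    ∃ z : G, z ∈ (P : Subgroup G) ∧ z ≠ 1 ∧ (∀ x ∈ (P : Subgroup G), x ^ p = 1) ∧
      (∀ v ∈ (P : Subgroup G), v * z = z * v) ∧
      (∀ v ∈ (P : Subgroup G), (∀ w ∈ (P : Subgroup G), v * w = w * v) → v ∈ Subgroup.zpowers z) ∧
      (∀ v ∈ (P : Subgroup G), ∀ w ∈ (P : Subgroup G), ⁅v, w⁆ ∈ Subgroup.zpowers z) := by
  obtain ⟨⟨-, -, hcc⟩, hZ⟩ := hE
  haveI : Nontrivial (Subgroup.center (P : Subgroup G)) := Finite.one_lt_card_iff_nontrivial.1 (by rw [hZ]; exact (Fact.out : p.Prime).one_lt)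
  obtain ⟨⟨z, hz⟩, hz1⟩ := exists_ne (1 : Subgroup.center (P : Subgroup G))
  have hz1' : z ≠ 1 := fun e => hz1 (Subtype.ext e)
  have hexp' : ∀ x ∈ (P : Subgroup G), x ^ p = 1 := fun x hx => by
    have h := Monoid.pow_exponent_eq_one (⟨x, hx⟩ : (P : Subgroup G))
    rw [hexp] at h
    exact congrArg Subtype.val h
  have hgen : Subgroup.zpowers z = Subgroup.center (P : Subgroup G) := by
    refine Subgroup.eq_of_le_of_card_ge (Subgroup.zpowers_le.2 hz) ?_
    rw [hZ, Nat.card_zpowers, orderOf_eq_prime (Subtype.ext (hexp' z z.2)) hz1']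
  have hz' : ∀ v : (P : Subgroup G), v ∈ Subgroup.center (P : Subgroup G) → (v : G) ∈ Subgroup.zpowers (z : G) := by
    intro v hv
    obtain ⟨k, rfl⟩ := (hgen ▸ hv : v ∈ Subgroup.zpowers z)
    exact ⟨k, by simp⟩
  refine ⟨z, z.2, fun e => hz1' (Subtype.ext e), hexp', fun v hv => ?_, fun v hv h => ?_, fun v hv w hw => ?_⟩
  · exact congrArg Subtype.val (Subgroup.mem_center_iff.1 hz ⟨v, hv⟩)
  · exact hz' ⟨v, hv⟩ (Subgroup.mem_center_iff.2 fun w => Subtype.ext (h w w.2).symm)
  · have h : ⁅(⟨v, hv⟩ : (P : Subgroup G)), ⟨w, hw⟩⁆ ∈ Subgroup.center (P : Subgroup G) := by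
      rw [← hcc, commutator_def]
      exact Subgroup.commutator_mem_commutator (Subgroup.mem_top _) (Subgroup.mem_top _)
    exact hz' _ h

/-- A subgroup of order `p²` of `P` contains the centre. -/
theorem mem_of_card_sq (P : Sylow p G) (hcard : Nat.card P = p ^ 3) {z : G} (hzP : z ∈ (P : Subgroup G))
    (hexp : ∀ x ∈ (P : Subgroup G), x ^ p = 1) (hcen : ∀ v ∈ (P : Subgroup G), v * z = z * v)
    (hmax : ∀ v ∈ (P : Subgroup G), (∀ w ∈ (P : Subgroup G), v * w = w * v) → v ∈ Subgroup.zpowers z)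
    {A : Subgroup G} (hAP : A ≤ P) (hA : Nat.card A = p ^ 2) : z ∈ A := by
  by_contra hzA
  have hp1 := (Fact.out : p.Prime).one_lt
  haveI := IsPGroup.isMulCommutative_of_card_eq_prime_sq hA
  obtain ⟨B, hB⟩ : ∃ B, B = Subgroup.closure ((A : Set G) ∪ {z}) := ⟨_, rfl⟩
  have hBab : ∀ x ∈ B, ∀ y ∈ B, x * y = y * x := by
    haveI : IsMulCommutative B := hB ▸ Subgroup.isMulCommutative_closure (by
      rintro x (hx | rfl) y (hy | rfl)
      · exact congrArg Subtype.val (this.is_comm.comm (⟨x, hx⟩ : A) ⟨y, hy⟩)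
      · exact hcen x (hAP hx)
      · exact (hcen y (hAP hy)).symm
      · rfl)
    exact fun x hx y hy => congrArg Subtype.val (IsMulCommutative.is_comm.comm (⟨x, hx⟩ : B) ⟨y, hy⟩)
  have hBP : B ≤ P := by
    rw [hB, Subgroup.closure_le]
    exact Set.union_subset hAP (Set.singleton_subset_iff.2 hzP)
  have hAB : A < B := lt_of_le_of_ne (hB ▸ fun x hx => Subgroup.subset_closure (Or.inl hx))
    (fun e => hzA (e ▸ hB ▸ Subgroup.subset_closure (Or.inr rfl)))
  have hBc : Nat.card B = p ^ 3 := by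
    obtain ⟨k, hk, hk'⟩ := (Nat.dvd_prime_pow (Fact.out : p.Prime)).1 (hcard ▸ Subgroup.card_dvd_of_le hBP)
    have hlt : Nat.card A < Nat.card B := by
      by_contra h
      exact hAB.ne (Subgroup.eq_of_le_of_card_ge hAB.le (not_lt.1 h))
    rw [hA, hk'] at hlt
    have := (Nat.pow_lt_pow_iff_right hp1).1 hlt
    rw [hk', show k = 3 by omega]
  have hBe : B = P := Subgroup.eq_of_le_of_card_ge hBP (by rw [hBc]; exact hcard.le)
  obtain ⟨⟨x, hx⟩, hx1⟩ := (Subgroup.ne_bot_iff_exists_ne_one).1 (fun e : A = ⊥ => by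
    rw [e, Subgroup.card_bot] at hA
    exact (Nat.one_lt_pow two_ne_zero hp1).ne hA)
  obtain ⟨k, hk⟩ := hmax x (hAP hx) fun w hw => hBab x (hBe ▸ hAP hx) w (hBe ▸ hw)
  have hk' : z ^ k = x := hk
  by_cases hpk : (p : ℤ) ∣ k
  · obtain ⟨c, rfl⟩ := hpk
    rw [zpow_mul, zpow_natCast, hexp z hzP, one_zpow] at hk'
    exact hx1 (Subtype.ext hk'.symm)
  · obtain ⟨s, t, hst⟩ := (Int.prime_iff_natAbs_prime.2 (by simpa using (Fact.out : p.Prime)) : Prime (p : ℤ)).coprime_iff_not_dvd.2 hpk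
    apply hzA
    have : z = x ^ t := by
      rw [← hk', ← zpow_mul]
      calc z = z ^ (s * (p : ℤ) + t * k) := by rw [hst, zpow_one]
        _ = z ^ (k * t) := by rw [zpow_add, mul_comm s, zpow_mul, zpow_natCast, hexp z hzP, one_zpow, one_mul, mul_comm k]
    rw [this]; exact Subgroup.zpow_mem _ hx t

/-- Three radical subgroups force a small `m`; thirteen of them as well. -/
theorem card_radical (P : Sylow p G) (hE : Cfsg.IsExtraspecial p P) (hcard : Nat.card P = p ^ 3)
    (hexp : Monoid.exponent P = p) {ι : Type*} [Fintype ι] (A : ι → Subgroup G) (hinj : Function.Injective A)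
    (hAP : ∀ i, A i ≤ P) (hA : ∀ i, Nat.card (A i) = p ^ 2)
    (hSL : ∀ i, ∀ φ : MulAut (A i), orderOf φ = p → ∃ g : G, ∀ x : A i, (φ x : G) = g * (x : G) * g⁻¹)
    (l : ZMod p) (hl : l ≠ 0) {m : ℕ} (hm : m ≤ orderOf (l ^ 3)) :
    (4 ≤ m → Fintype.card ι ≤ 12) ∧ (6 ≤ m → Fintype.card ι ≤ 2) := by
  classical
  obtain ⟨z, hzP, hz1, hpow, hcen, hmax, hcom⟩ := exists_data P hE hexp
  have hzo : orderOf z = p := orderOf_eq_prime (hpow z hzP) hz1
  obtain ⟨Z, hZdef⟩ : ∃ Z, Z = Subgroup.center (P : Subgroup G) := ⟨_, rfl⟩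
  haveI : Z.Normal := hZdef ▸ inferInstance
  have hZc : Nat.card Z = p := hZdef ▸ hE.2
  have hQc : Nat.card ((P : Subgroup G) ⧸ Z) = p ^ 2 := by
    have := Z.card_eq_card_quotient_mul_card_subgroup
    rw [hcard, hZc, pow_succ] at this
    exact (Nat.eq_of_mul_eq_mul_right (Fact.out : p.Prime).pos this).symm
  have hmem : ∀ v : (P : Subgroup G), (v : G) ∈ Subgroup.zpowers z ↔ v ∈ Z := by
    intro v
    rw [hZdef]
    constructor
    · rintro ⟨k, hk⟩
      refine Subgroup.mem_center_iff.2 fun w => Subtype.ext ?_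
      have hk' : z ^ k = (v : G) := hk
      show (w : G) * v = v * w
      rw [← hk']
      exact (Commute.zpow_right (hcen w w.2) k).eq
    · intro hv
      exact hmax v v.2 fun w hw => congrArg Subtype.val (Subgroup.mem_center_iff.1 hv ⟨w, hw⟩).symm
  obtain ⟨x, hx⟩ : ∃ x : (P : Subgroup G), x ∉ Z := by
    by_contra h
    push Not at h
    have : Z = ⊤ := (Subgroup.eq_top_iff' _).2 h
    rw [this, Subgroup.card_top, hcard] at hZc
    exact (Nat.pow_lt_pow_right (Fact.out : p.Prime).one_lt (by norm_num : 1 < 3)).ne' (hZc.trans (pow_one p).symm)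
  obtain ⟨q, hq⟩ : ∃ q : (P : Subgroup G) ⧸ Z, q ∉ Subgroup.zpowers (x : (P : Subgroup G) ⧸ Z) := by
    by_contra h
    push Not at h
    have h1 : Subgroup.zpowers (x : (P : Subgroup G) ⧸ Z) = ⊤ := (Subgroup.eq_top_iff' _).2 h
    have h2 := congrArg (fun S : Subgroup ((P : Subgroup G) ⧸ Z) => Nat.card S) h1
    simp only [Nat.card_zpowers, Subgroup.card_top, hQc] at h2
    have h3 : orderOf (x : (P : Subgroup G) ⧸ Z) ∣ p := orderOf_dvd_of_pow_eq_one (by
      rw [← QuotientGroup.mk_pow, show x ^ p = 1 from Subtype.ext (hpow x x.2)]; rfl)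
    rw [h2] at h3
    exact absurd (Nat.le_of_dvd (Fact.out : p.Prime).pos h3) (not_le.2 (by
      nlinarith [(Fact.out : p.Prime).one_lt]))
  obtain ⟨y, rfl⟩ := QuotientGroup.mk_surjective q
  have hQab : ∀ a b : (P : Subgroup G) ⧸ Z, a * b = b * a := by
    intro a b
    obtain ⟨a, rfl⟩ := QuotientGroup.mk_surjective a
    obtain ⟨b, rfl⟩ := QuotientGroup.mk_surjective b
    rw [← QuotientGroup.mk_mul, ← QuotientGroup.mk_mul, QuotientGroup.eq]
    refine (hmem _).1 ?_
    have := hcom _ (inv_mem b.2) _ (inv_mem a.2)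
    simpa [commutatorElement_def, mul_assoc] using this
  have hQe : ∀ a : (P : Subgroup G) ⧸ Z, a ^ p = 1 := by
    intro a
    obtain ⟨a, rfl⟩ := QuotientGroup.mk_surjective a
    rw [← QuotientGroup.mk_pow, show a ^ p = 1 from Subtype.ext (hpow a a.2)]; rfl
  obtain ⟨e, he⟩ := exists_coords hQc hQab hQe (x : (P : Subgroup G) ⧸ Z) y
    (fun h => hx ((QuotientGroup.eq_one_iff x).1 h)) hq
  -- the automiser
  obtain ⟨NP, hNP⟩ : ∃ NP, NP = Subgroup.normalizer ((P : Subgroup G) : Set G) := ⟨_, rfl⟩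
  let cj : NP → (P : Subgroup G) →* (P : Subgroup G) := fun n =>
    { toFun := fun v => ⟨(n : G) * v * (n : G)⁻¹, (Subgroup.mem_normalizer_iff.1 (show (n : G) ∈ Subgroup.normalizer ((P : Subgroup G) : Set G) by rw [← hNP]; exact n.2) v).1 v.2⟩
      map_one' := Subtype.ext (by simp)
      map_mul' := fun v w => Subtype.ext (by simp only [Subgroup.coe_mul]; group) }
  have hcjZ : ∀ n : NP, Z ≤ Z.comap (cj n) := by
    intro n v hv
    rw [hZdef] at hv ⊢
    refine Subgroup.mem_center_iff.2 fun w => Subtype.ext ?_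
    obtain ⟨w', hw'⟩ : ∃ w' : (P : Subgroup G), w = cj n w' :=
      ⟨⟨(n : G)⁻¹ * w * n, by
        have := (Subgroup.mem_normalizer_iff.1 (show (n : G) ∈ Subgroup.normalizer ((P : Subgroup G) : Set G) by rw [← hNP]; exact n.2) ((n : G)⁻¹ * w * n)).2 (by
          rw [show (n : G) * ((n : G)⁻¹ * w * n) * (n : G)⁻¹ = w by group]; exact w.2)
        exact this⟩, Subtype.ext (show (w : G) = (n : G) * ((n : G)⁻¹ * w * n) * (n : G)⁻¹ by group)⟩
    rw [hw', ← map_mul, ← map_mul, Subgroup.mem_center_iff.1 hv w']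
  let ψ : NP → ((P : Subgroup G) ⧸ Z →* (P : Subgroup G) ⧸ Z) := fun n => QuotientGroup.map Z Z (cj n) (hcjZ n)
  have hψ : ∀ (n : NP) (v : (P : Subgroup G)), ψ n (v : (P : Subgroup G) ⧸ Z) = ((cj n v : (P : Subgroup G)) : (P : Subgroup G) ⧸ Z) :=
    fun n v => rfl
  let L : NP → ((Fin 2 → ZMod p) →ₗ[ZMod p] (Fin 2 → ZMod p)) := fun n =>
    AddMonoidHom.toZModLinearMap p (AddMonoidHom.toMultiplicative.symm ((e.symm.toMonoidHom.comp (ψ n)).comp e.toMonoidHom))
  have hL : ∀ n w, e (Multiplicative.ofAdd (L n w)) = ψ n (e (Multiplicative.ofAdd w)) := by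
    intro n w
    show e (e.symm (ψ n (e (Multiplicative.ofAdd w)))) = _
    rw [e.apply_symm_apply]
  have hLinj : ∀ {a b : Fin 2 → ZMod p}, e (Multiplicative.ofAdd a) = e (Multiplicative.ofAdd b) → a = b :=
    fun h => Multiplicative.ofAdd.injective (e.injective h)
  let ρ : NP →* Matrix (Fin 2) (Fin 2) (ZMod p) :=
    { toFun := fun n => LinearMap.toMatrixAlgEquiv' (L n)
      map_one' := by
        rw [show L 1 = 1 from LinearMap.ext fun w => hLinj (by
          rw [hL]
          obtain ⟨v, hv⟩ := QuotientGroup.mk_surjective (e (Multiplicative.ofAdd w))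
          rw [Module.End.one_apply, ← hv, hψ]
          congr 1
          exact Subtype.ext (by show (1 : G) * v * (1 : G)⁻¹ = v; group)), map_one]
      map_mul' := fun n n' => by
        rw [← map_mul, show L (n * n') = L n * L n' from LinearMap.ext fun w => hLinj (by
          rw [hL, Module.End.mul_apply, hL, hL]
          obtain ⟨v, hv⟩ := QuotientGroup.mk_surjective (e (Multiplicative.ofAdd w))
          rw [← hv, hψ, hψ, hψ]
          congr 1
          exact Subtype.ext (by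
            show (n : G) * n' * v * ((n : G) * n')⁻¹ = (n : G) * ((n' : G) * v * (n' : G)⁻¹) * (n : G)⁻¹
            group))] }
  have hρw : ∀ n w, (ρ n).mulVec w = L n w := fun n w => by
    show (LinearMap.toMatrix' (L n)).mulVec w = _
    rw [LinearMap.toMatrix'_mulVec]
  -- order prime to `p`
  have hPN : (P : Subgroup G) ≤ NP := hNP ▸ Subgroup.le_normalizer
  haveI : ((P : Subgroup G).subgroupOf NP).Normal := by subst hNP; exact Subgroup.normal_in_normalizer
  have hρ : ∀ n, ∃ k : ℕ, ¬ p ∣ k ∧ ρ n ^ k = 1 := by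
    intro n
    refine ⟨((P : Subgroup G).subgroupOf NP).index, ?_, ?_⟩
    · rw [← Sylow.coe_subtype (h := hPN)]; exact Sylow.not_dvd_index _
    rw [← map_pow]
    have hnP : ((n ^ ((P : Subgroup G).subgroupOf NP).index : NP) : G) ∈ (P : Subgroup G) :=
      Subgroup.pow_index_mem ((P : Subgroup G).subgroupOf NP) n
    generalize n ^ ((P : Subgroup G).subgroupOf NP).index = n₀ at hnP
    show LinearMap.toMatrixAlgEquiv' (L n₀) = 1
    rw [show L n₀ = 1 from LinearMap.ext fun w => hLinj (by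
      rw [hL]
      obtain ⟨v, hv⟩ := QuotientGroup.mk_surjective (e (Multiplicative.ofAdd w))
      rw [Module.End.one_apply, ← hv, hψ, show cj n₀ v = ⟨n₀, hnP⟩ * v * (⟨n₀, hnP⟩ : (P : Subgroup G))⁻¹ from rfl,
        QuotientGroup.mk_mul, QuotientGroup.mk_mul, QuotientGroup.mk_inv, hQab, ← mul_assoc, inv_mul_cancel, one_mul]),
      map_one]
  -- commutators
  have hmulL : ∀ a ∈ (P : Subgroup G), ∀ b ∈ (P : Subgroup G), ∀ c ∈ (P : Subgroup G),
      ⁅a * b, c⁆ = ⁅a, c⁆ * ⁅b, c⁆ := by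
    intro a ha b hb c hc
    obtain ⟨k, hk⟩ := hcom b hb c hc
    have hk' : z ^ k = ⁅b, c⁆ := hk
    have hac : Commute ⁅a, c⁆ (z ^ k) := Commute.zpow_right
      (hcen _ (mul_mem (mul_mem (mul_mem ha hc) (inv_mem ha)) (inv_mem hc))) k
    calc ⁅a * b, c⁆ = a * ⁅b, c⁆ * a⁻¹ * ⁅a, c⁆ := by simp only [commutatorElement_def]; group
      _ = z ^ k * ⁅a, c⁆ := by rw [← hk', (Commute.zpow_right (hcen a ha) k).eq, mul_inv_cancel_right]
      _ = _ := by rw [← hac.eq, hk']
  have hpowL : ∀ a ∈ (P : Subgroup G), ∀ c ∈ (P : Subgroup G), ∀ j : ℕ, ⁅a ^ j, c⁆ = ⁅a, c⁆ ^ j := by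
    intro a ha c hc j
    induction j with
    | zero => simp
    | succ j ih => rw [pow_succ, hmulL _ (pow_mem ha j) a ha c hc, ih, pow_succ]
  have hcomm2 : ∀ (a b : (P : Subgroup G)), ∀ i j k s : ZMod p,
      (a : (P : Subgroup G) ⧸ Z) = (x : (P : Subgroup G) ⧸ Z) ^ i.val * (y : (P : Subgroup G) ⧸ Z) ^ j.val →
      (b : (P : Subgroup G) ⧸ Z) = (x : (P : Subgroup G) ⧸ Z) ^ k.val * (y : (P : Subgroup G) ⧸ Z) ^ s.val →
      ⁅(a : G), (b : G)⁆ = ⁅(x : G), (y : G)⁆ ^ (i * s - j * k).val := by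
    intro a b i j k s ha hb
    have hzc : ∀ w ∈ Subgroup.zpowers z, ∀ c ∈ (P : Subgroup G), ⁅w, c⁆ = 1 := by
      rintro _ ⟨t, rfl⟩ c hc
      rw [commutatorElement_eq_one_iff_mul_comm]
      exact ((Commute.zpow_right (hcen c hc) t).symm).eq
    have red : ∀ (a : (P : Subgroup G)) (i j : ZMod p),
        (a : (P : Subgroup G) ⧸ Z) = (x : (P : Subgroup G) ⧸ Z) ^ i.val * (y : (P : Subgroup G) ⧸ Z) ^ j.val →
        ∀ c ∈ (P : Subgroup G), ⁅(a : G), c⁆ = ⁅(x : G), c⁆ ^ i.val * ⁅(y : G), c⁆ ^ j.val := by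
      intro a i j ha c hc
      rw [← QuotientGroup.mk_pow, ← QuotientGroup.mk_pow, ← QuotientGroup.mk_mul, eq_comm, QuotientGroup.eq] at ha
      have h1 : (a : G) = ((x : G) ^ i.val * (y : G) ^ j.val) * (((x : G) ^ i.val * (y : G) ^ j.val)⁻¹ * a) := by group
      have h2 : ((x : G) ^ i.val * (y : G) ^ j.val)⁻¹ * a ∈ Subgroup.zpowers z := by
        have := (hmem _).2 ha
        simpa using this
      have hm : ((x : G) ^ i.val * (y : G) ^ j.val) ∈ (P : Subgroup G) := mul_mem (pow_mem x.2 _) (pow_mem y.2 _)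
      rw [h1, hmulL _ hm _ (mul_mem (inv_mem hm) a.2) c hc, hzc _ h2 c hc, mul_one,
        hmulL _ (pow_mem x.2 _) _ (pow_mem y.2 _) c hc, hpowL _ x.2 c hc, hpowL _ y.2 c hc]
    have hinv : ∀ c d : G, ⁅c, d⁆ = ⁅d, c⁆⁻¹ := fun c d => (commutatorElement_inv d c).symm
    obtain ⟨w, hw⟩ : ∃ w, w = ⁅(x : G), (y : G)⁆ := ⟨_, rfl⟩
    have hwp : w ^ p = 1 := hw ▸ hpow _ (mul_mem (mul_mem (mul_mem x.2 y.2) (inv_mem x.2)) (inv_mem y.2))
    have hwn : ∀ t : ZMod p, (w ^ t.val)⁻¹ = w ^ (-t).val := fun t =>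
      inv_eq_of_mul_eq_one_right (by rw [← pow_val_add hwp, add_neg_cancel, ZMod.val_zero, pow_zero])
    rw [red a i j ha _ b.2, hinv (x : G) b, hinv (y : G) b, red b k s hb _ x.2, red b k s hb _ y.2,
      hinv (y : G) x, ← hw, show ⁅(x : G), (x : G)⁆ = 1 from commutatorElement_self _,
      show ⁅(y : G), (y : G)⁆ = 1 from commutatorElement_self _]
    simp only [one_pow, mul_one, one_mul, inv_pow, inv_inv]
    rw [pow_val_mul hwp, pow_val_mul hwp, hwn, ← pow_val_add hwp]
    congr 2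
    ring
  have hxy : ⁅(x : G), (y : G)⁆ ≠ 1 := by
    intro h
    apply hx
    rw [hZdef]
    refine Subgroup.mem_center_iff.2 fun w => ?_
    obtain ⟨v, hv⟩ : ∃ v, e (Multiplicative.ofAdd v) = (w : (P : Subgroup G) ⧸ Z) :=
      ⟨Multiplicative.toAdd (e.symm w), e.apply_symm_apply _⟩
    rw [he] at hv
    have hc := hcomm2 w x (v 0) (v 1) 1 0 hv.symm (by rw [ZMod.val_one, pow_one, ZMod.val_zero, pow_zero, mul_one])
    rw [h, one_pow, commutatorElement_eq_one_iff_mul_comm] at hc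
    exact Subtype.ext hc
  have hdet : ∀ (n : NP) (t : ZMod p), (n : G) * z * (n : G)⁻¹ = z ^ t.val → (ρ n).det = t := by
    intro n t ht
    obtain ⟨k, hk⟩ := hcom _ x.2 _ y.2
    have hk' : z ^ k = ⁅(x : G), (y : G)⁆ := hk
    have col : ∀ (c : (P : Subgroup G)) (v : Fin 2 → ZMod p),
        (c : (P : Subgroup G) ⧸ Z) = e (Multiplicative.ofAdd v) →
        ((cj n c : (P : Subgroup G)) : (P : Subgroup G) ⧸ Z) =
          (x : (P : Subgroup G) ⧸ Z) ^ ((ρ n).mulVec v 0).val * (y : (P : Subgroup G) ⧸ Z) ^ ((ρ n).mulVec v 1).val := by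
      intro c v hc
      rw [← hψ, hc, ← hL, he, hρw]
    have e1 := col x ![1, 0] (by rw [he]; simp [ZMod.val_one])
    have e2 := col y ![0, 1] (by rw [he]; simp [ZMod.val_one])
    have h := hcomm2 (cj n x) (cj n y) _ _ _ _ e1 e2
    have hlhs : ⁅((cj n x : (P : Subgroup G)) : G), ((cj n y : (P : Subgroup G)) : G)⁆ = ⁅(x : G), (y : G)⁆ ^ t.val := by
      calc ⁅((cj n x : (P : Subgroup G)) : G), ((cj n y : (P : Subgroup G)) : G)⁆
          = (n : G) * ⁅(x : G), (y : G)⁆ * (n : G)⁻¹ := by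
            show ⁅(n : G) * x * (n : G)⁻¹, (n : G) * y * (n : G)⁻¹⁆ = _
            simp only [commutatorElement_def]; group
        _ = ((n : G) * z * (n : G)⁻¹) ^ k := by rw [← hk', conj_zpow]
        _ = _ := by rw [ht, ← hk', ← zpow_natCast, ← zpow_natCast, ← zpow_mul, ← zpow_mul, mul_comm]
    rw [hlhs] at h
    have hwp : ⁅(x : G), (y : G)⁆ ^ p = 1 := hpow _ (mul_mem (mul_mem (mul_mem x.2 y.2) (inv_mem x.2)) (inv_mem y.2))
    have h3 : ((ρ n).det - t) = 0 := by
      refine pow_val_eq_one hwp hxy ?_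
      rw [sub_eq_add_neg, pow_val_add hwp]
      have h4 : ((ρ n).det) = (ρ n).mulVec ![1, 0] 0 * (ρ n).mulVec ![0, 1] 1 - (ρ n).mulVec ![1, 0] 1 * (ρ n).mulVec ![0, 1] 0 := by
        rw [Matrix.det_fin_two]; simp [Matrix.mulVec, dotProduct, Fin.sum_univ_two]; ring
      rw [h4, ← h, ← pow_val_add hwp, add_neg_cancel, ZMod.val_zero, pow_zero]
    exact sub_eq_zero.1 h3
  -- a generator of each subgroup modulo the centre
  have hgen : ∀ i, ∃ a : (P : Subgroup G), (a : G) ∈ A i ∧ (a : G) ∉ Subgroup.zpowers z := by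
    intro i
    by_contra h
    push Not at h
    have hle : A i ≤ Subgroup.zpowers z := fun w hw => h ⟨w, hAP i hw⟩ hw
    have h2 := Subgroup.card_le_of_le hle
    rw [hA i, Nat.card_zpowers, hzo] at h2
    nlinarith [(Fact.out : p.Prime).one_lt]
  choose a haA haZ using hgen
  let u : ι → (Fin 2 → ZMod p) := fun i => Multiplicative.toAdd (e.symm (a i))
  have hu : ∀ i, e (Multiplicative.ofAdd (u i)) = (a i : (P : Subgroup G) ⧸ Z) := fun i => e.apply_symm_apply _
  have hu0 : ∀ i, u i ≠ 0 := fun i h => by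
    have h1 := hu i
    rw [h, ofAdd_zero, map_one] at h1
    exact haZ i ((hmem _).2 ((QuotientGroup.eq_one_iff _).1 h1.symm))
  have hind : ∀ i j, i ≠ j → u i 0 * u j 1 - u i 1 * u j 0 ≠ 0 := by
    intro i j hij hzero
    have hi := hu i
    have hj := hu j
    rw [he] at hi hj
    have hc := hcomm2 (a i) (a j) _ _ _ _ hi.symm hj.symm
    rw [hzero, ZMod.val_zero, pow_zero, commutatorElement_eq_one_iff_mul_comm] at hc
    -- then the two subgroups generate an abelian subgroup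
    have hzA := mem_of_card_sq P hcard hzP hpow hcen hmax (hAP i) (hA i)
    have hzA' := mem_of_card_sq P hcard hzP hpow hcen hmax (hAP j) (hA j)
    have hcl : ∀ k, A k = Subgroup.closure {z, (a k : G)} := by
      intro k
      have hzk := mem_of_card_sq P hcard hzP hpow hcen hmax (hAP k) (hA k)
      refine (Subgroup.eq_of_le_of_card_ge ((Subgroup.closure_le _).2 (Set.insert_subset hzk (Set.singleton_subset_iff.2 (haA k)))) ?_).symm
      obtain ⟨r, hr, hr'⟩ := (Nat.dvd_prime_pow (Fact.out : p.Prime)).1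
        (hA k ▸ Subgroup.card_dvd_of_le ((Subgroup.closure_le (A k)).2 (Set.insert_subset hzk (Set.singleton_subset_iff.2 (haA k)))))
      by_contra hlt
      rw [hA k, hr', not_le] at hlt
      have hr1 : r ≤ 1 := Nat.lt_succ_iff.1 ((Nat.pow_lt_pow_iff_right (Fact.out : p.Prime).one_lt).1 hlt)
      have hzle : Subgroup.zpowers z ≤ Subgroup.closure {z, (a k : G)} :=
        Subgroup.zpowers_le.2 (Subgroup.subset_closure (Set.mem_insert _ _))
      have := Subgroup.eq_of_le_of_card_ge hzle (by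
        rw [hr', Nat.card_zpowers, hzo]
        exact (Nat.pow_le_pow_right (Fact.out : p.Prime).pos hr1).trans (pow_one p).le)
      exact haZ k (this ▸ Subgroup.subset_closure (Set.mem_insert_of_mem _ rfl))
    obtain ⟨B, hB⟩ : ∃ B, B = Subgroup.closure ({z, (a i : G), (a j : G)} : Set G) := ⟨_, rfl⟩
    have hab : ∀ w ∈ B, ∀ w' ∈ B, w * w' = w' * w := by
      haveI : IsMulCommutative B := hB ▸ Subgroup.isMulCommutative_closure (by
        have c1 := (hcen _ (a i).2).symm
        have c2 := (hcen _ (a j).2).symm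
        rintro w (rfl | rfl | rfl) w' (rfl | rfl | rfl)
        all_goals first | rfl | exact c1 | exact c1.symm | exact c2 | exact c2.symm | exact hc | exact hc.symm)
      exact fun w hw w' hw' => congrArg Subtype.val (IsMulCommutative.is_comm.comm (⟨w, hw⟩ : B) ⟨w', hw'⟩)
    have hBP : B ≤ P := by
      rw [hB, Subgroup.closure_le]
      rintro w (rfl | rfl | rfl)
      exacts [hzP, (a i).2, (a j).2]
    have hle : ∀ k, (k = i ∨ k = j) → A k ≤ B := by
      intro k hk
      rw [hcl k, hB]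
      refine Subgroup.closure_mono ?_
      rcases hk with rfl | rfl <;> · intro w hw; rcases hw with rfl | rfl <;> simp
    obtain ⟨r, hr, hr'⟩ := (Nat.dvd_prime_pow (Fact.out : p.Prime)).1 (hcard ▸ Subgroup.card_dvd_of_le hBP)
    rcases (show r ≤ 2 ∨ r = 3 by omega) with h | h
    · have hc2 : Nat.card B ≤ p ^ 2 := hr' ▸ Nat.pow_le_pow_right (Fact.out : p.Prime).pos h
      have e1 := Subgroup.eq_of_le_of_card_ge (hle i (Or.inl rfl)) (by rw [hA i]; exact hc2)
      have e2 := Subgroup.eq_of_le_of_card_ge (hle j (Or.inr rfl)) (by rw [hA j]; exact hc2)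
      exact hij (hinj (e1.trans e2.symm))
    · have hBe : B = P := Subgroup.eq_of_le_of_card_ge hBP (by rw [hr', h]; exact hcard.le)
      exact hx (hZdef ▸ Subgroup.mem_center_iff.2 fun w =>
        Subtype.ext (hab w (hBe ▸ w.2) x (hBe ▸ x.2)))
  have hdiag : ∀ i, ∃ n, (ρ n).mulVec (u i) = l⁻¹ • u i ∧ (ρ n).det = l := by
    intro i
    have hzA := mem_of_card_sq P hcard hzP hpow hcen hmax (hAP i) (hA i)
    obtain ⟨n, hn, hnz, k, hna⟩ := exists_torus P hpow (A i) (hAP i) (hA i) hzA hz1 (haA i) (haZ i) hcen hcom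
      (hSL i) l hl
    refine ⟨⟨n, hNP ▸ hn⟩, ?_, hdet _ l hnz⟩
    rw [hρw]
    refine hLinj ?_
    rw [hL, hu, hψ]
    have h1 : e (Multiplicative.ofAdd ((l⁻¹) • u i)) = (a i : (P : Subgroup G) ⧸ Z) ^ (l⁻¹).val := by
      rw [← hu, ← map_pow, ← ofAdd_nsmul, ← Nat.cast_smul_eq_nsmul (ZMod p), ZMod.natCast_zmod_val]
    rw [h1, ← QuotientGroup.mk_pow, eq_comm, QuotientGroup.eq]
    refine (hmem _).1 ?_
    show ((a i : G) ^ (l⁻¹).val)⁻¹ * (n * (a i : G) * n⁻¹) ∈ _
    rw [hna, inv_mul_cancel_left]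
    exact Subgroup.pow_mem _ (Subgroup.mem_zpowers z) k
  have huinj : Function.Injective u := fun i j h => by
    by_contra hij
    apply hind i j hij
    rw [h]; ring
  have hcardT : (Finset.univ.image u).card = Fintype.card ι := Finset.card_image_of_injective _ huinj
  have := card_lines ρ hρ (Finset.univ.image u)
    (fun v hv => by obtain ⟨i, -, rfl⟩ := Finset.mem_image.1 hv; exact hu0 i)
    (fun v hv w hw hne => by
      obtain ⟨i, -, rfl⟩ := Finset.mem_image.1 hv
      obtain ⟨j, -, rfl⟩ := Finset.mem_image.1 hw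
      exact hind i j fun e => hne (e ▸ rfl))
    l hl hm (fun v hv => by obtain ⟨i, -, rfl⟩ := Finset.mem_image.1 hv; exact hdiag i)
  rwa [hcardT] at this

end Group

/-- A unit of `ZMod p` of order `p - 1`. -/
theorem exists_primitive (p : ℕ) [Fact p.Prime] : ∃ l : ZMod p, l ≠ 0 ∧ orderOf l = p - 1 := by
  obtain ⟨g, hg⟩ := IsCyclic.exists_generator (α := (ZMod p)ˣ)
  refine ⟨g, g.ne_zero, ?_⟩
  rw [orderOf_units, orderOf_eq_card_of_forall_mem_zpowers hg, Nat.card_eq_fintype_card, ZMod.card_units]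

end Cfsg.Agent.RadicalBound
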